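import Mathlib
import Cfsg.Agent.ClassicalGeometry.PSL2Basic

/-!
# S5210, RK: the Sylow `p`-subgroups of `PSL₂(pᵐ)` (helper417)

`Concl p m P` : the conclusions of `StRk` for a Sylow `p`-subgroup `P` of a group; `concl_psl` : they hold in `PSL₂(pᵐ)`.
-/

set_option autoImplicit false

namespace Cfsg.Agent.H417.P4

open Matrix Subgroup
open Cfsg.Agent.ClassicalGeometry.PSL2Basic
open scoped Pointwise

/-- the conclusions of `StRk` -/
structure Concl {p : ℕ} {G : Type*} [Group G] (m : ℕ) (P : Sylow p G) : Prop where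
  tr : ∀ P' P'' : Sylow p G, P' ≠ P → P'' ≠ P → ∃ x ∈ (P : Subgroup G), x • P' = P''
  sw : ∀ P' : Sylow p G, P' ≠ P → ∀ x ∈ (P : Subgroup G), x ≠ 1 → ∃ y ∈ (P' : Subgroup G),
    (x * y * x) • P = P' ∧ (x * y * x) • P' = P
  tor : ∀ P' : Sylow p G, P' ≠ P → ∃ h : G, h • P = P ∧ h • P' = P' ∧
    ∀ j : ℕ, 0 < j → j * (if p = 2 then 1 else 2) < p ^ m - 1 → ∀ x ∈ (P : Subgroup G), h ^ j * x = x * h ^ j → x = 1

section SL

variable {F : Type*} [Field F]

/-- the upper unitriangular matrix -/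
def u (a : F) : SpecialLinearGroup (Fin 2) F := ⟨!![1, a; 0, 1], by simp [Matrix.det_fin_two]⟩

/-- the lower unitriangular matrix -/
def l (a : F) : SpecialLinearGroup (Fin 2) F := ⟨!![1, 0; a, 1], by simp [Matrix.det_fin_two]⟩

/-- the diagonal matrix -/
def dg (t : Fˣ) : SpecialLinearGroup (Fin 2) F := ⟨!![(t : F), 0; 0, ((t⁻¹ : Fˣ) : F)], by simp [Matrix.det_fin_two]⟩

theorem u_coe (a : F) : ((u a : SpecialLinearGroup (Fin 2) F) : Matrix (Fin 2) (Fin 2) F) = !![1, a; 0, 1] := rfl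

theorem l_coe (a : F) : ((l a : SpecialLinearGroup (Fin 2) F) : Matrix (Fin 2) (Fin 2) F) = !![1, 0; a, 1] := rfl

theorem dg_coe (t : Fˣ) : ((dg t : SpecialLinearGroup (Fin 2) F) : Matrix (Fin 2) (Fin 2) F) =
    !![(t : F), 0; 0, ((t⁻¹ : Fˣ) : F)] := rfl

theorem ext2 {g h : SpecialLinearGroup (Fin 2) F} (h00 : g 0 0 = h 0 0) (h01 : g 0 1 = h 0 1) (h10 : g 1 0 = h 1 0)
    (h11 : g 1 1 = h 1 1) : g = h := by
  apply Subtype.ext
  ext i j
  fin_cases i <;> fin_cases j
  · exact h00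
  · exact h01
  · exact h10
  · exact h11

theorem mul00 (g h : SpecialLinearGroup (Fin 2) F) : (g * h) 0 0 = g 0 0 * h 0 0 + g 0 1 * h 1 0 :=
  (congrFun (congrFun (Matrix.SpecialLinearGroup.coe_mul g h) 0) 0).trans (by rw [Matrix.mul_apply, Fin.sum_univ_two])

theorem mul01 (g h : SpecialLinearGroup (Fin 2) F) : (g * h) 0 1 = g 0 0 * h 0 1 + g 0 1 * h 1 1 :=
  (congrFun (congrFun (Matrix.SpecialLinearGroup.coe_mul g h) 0) 1).trans (by rw [Matrix.mul_apply, Fin.sum_univ_two])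

theorem mul10 (g h : SpecialLinearGroup (Fin 2) F) : (g * h) 1 0 = g 1 0 * h 0 0 + g 1 1 * h 1 0 :=
  (congrFun (congrFun (Matrix.SpecialLinearGroup.coe_mul g h) 1) 0).trans (by rw [Matrix.mul_apply, Fin.sum_univ_two])

theorem mul11 (g h : SpecialLinearGroup (Fin 2) F) : (g * h) 1 1 = g 1 0 * h 0 1 + g 1 1 * h 1 1 :=
  (congrFun (congrFun (Matrix.SpecialLinearGroup.coe_mul g h) 1) 1).trans (by rw [Matrix.mul_apply, Fin.sum_univ_two])

theorem u00 (a : F) : (u a) 0 0 = 1 := rfl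
theorem u01 (a : F) : (u a) 0 1 = a := rfl
theorem u10 (a : F) : (u a) 1 0 = 0 := rfl
theorem u11 (a : F) : (u a) 1 1 = 1 := rfl
theorem l00 (a : F) : (l a) 0 0 = 1 := rfl
theorem l01 (a : F) : (l a) 0 1 = 0 := rfl
theorem l10 (a : F) : (l a) 1 0 = a := rfl
theorem l11 (a : F) : (l a) 1 1 = 1 := rfl
theorem d00 (t : Fˣ) : (dg t) 0 0 = (t : F) := rfl
theorem d01 (t : Fˣ) : (dg t) 0 1 = 0 := rfl
theorem d10 (t : Fˣ) : (dg t) 1 0 = 0 := rfl
theorem d11 (t : Fˣ) : (dg t) 1 1 = ((t⁻¹ : Fˣ) : F) := rfl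

theorem u_mul (a b : F) : u a * u b = u (a + b) := by
  apply ext2 <;> simp only [mul00, mul01, mul10, mul11, u00, u01, u10, u11] <;> ring

theorem l_mul (a b : F) : l a * l b = l (a + b) := by
  apply ext2 <;> simp only [mul00, mul01, mul10, mul11, l00, l01, l10, l11] <;> ring

theorem u_zero : u (0 : F) = 1 := by
  apply Subtype.ext
  rw [u_coe]
  ext i j
  fin_cases i <;> fin_cases j <;> simp

theorem l_zero : l (0 : F) = 1 := by
  apply Subtype.ext
  rw [l_coe]
  ext i j
  fin_cases i <;> fin_cases j <;> simp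

theorem dg_mul (s t : Fˣ) : dg s * dg t = dg (s * t) := by
  apply ext2 <;> simp only [mul00, mul01, mul10, mul11, d00, d01, d10, d11] <;> push_cast
  · ring
  · ring
  · ring
  · rw [_root_.mul_inv_rev]
    ring

theorem dg_pow (t : Fˣ) (j : ℕ) : dg t ^ j = dg (t ^ j) := by
  induction j with
  | zero =>
    rw [pow_zero, pow_zero]
    apply Subtype.ext
    rw [dg_coe]
    ext i k
    fin_cases i <;> fin_cases k <;> simp
  | succ j ih => rw [pow_succ, ih, dg_mul, pow_succ]

theorem conj_upper (g : SpecialLinearGroup (Fin 2) F) (h : g 1 0 = 0) (a : F) : g * u a = u (g 0 0 ^ 2 * a) * g := by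
  have hd : g 0 0 * g 1 1 - g 0 1 * g 1 0 = 1 := by
    rw [← Matrix.det_fin_two]
    exact g.2
  rw [h] at hd
  apply ext2 <;> simp only [mul00, mul01, mul10, mul11, u00, u01, u10, u11, h]
  · ring
  · linear_combination (-(g 0 0) * a) * hd
  · ring
  · ring

theorem dg_l (t : Fˣ) (a : F) : dg t * l a = l (((t⁻¹ : Fˣ) : F) ^ 2 * a) * dg t := by
  have h : ((t⁻¹ : Fˣ) : F) * t = 1 := Units.inv_mul t
  apply ext2 <;> simp only [mul00, mul01, mul10, mul11, l00, l01, l10, l11, d00, d01, d10, d11]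
  · ring
  · ring
  · linear_combination (-((t⁻¹ : Fˣ) : F) * a) * h
  · ring

theorem conj_lower (g : SpecialLinearGroup (Fin 2) F) (h : g 1 0 ≠ 0) (a : F) :
    g * u a = u (g 0 0 / g 1 0) * l (-(g 1 0) ^ 2 * a) * u (-(g 0 0 / g 1 0)) * g := by
  have hd : g 0 0 * g 1 1 - g 0 1 * g 1 0 = 1 := by
    rw [← Matrix.det_fin_two]
    exact g.2
  have he : g 1 1 * (g 0 0 / g 1 0) = g 0 1 + (g 1 0)⁻¹ := by
    field_simp
    linear_combination hd
  have he2 : g 0 0 / g 1 0 * g 1 0 = g 0 0 := div_mul_cancel₀ _ h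
  have he3 : (g 1 0)⁻¹ * g 1 0 = 1 := inv_mul_cancel₀ h
  apply ext2 <;> simp only [mul00, mul01, mul10, mul11, u00, u01, u10, u11, l00, l01, l10, l11]
  all_goals
    generalize g 0 0 / g 1 0 = z at *
    generalize (g 1 0)⁻¹ = w at *
    generalize g 0 0 = A at *
    generalize g 0 1 = B at *
    generalize g 1 0 = C at *
    generalize g 1 1 = D at *
  · subst he2
    ring
  · subst he2
    have hd' : C * (z * D - B) = 1 := by linear_combination hd
    linear_combination (-a * z * C) * hd'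
  · subst he2
    ring
  · subst he2
    have hd' : C * (z * D - B) = 1 := by linear_combination hd
    linear_combination (-a * C) * hd'

/-- the swapping element -/
def wm (a : F) (ha : a ≠ 0) : SpecialLinearGroup (Fin 2) F := ⟨!![0, a; -a⁻¹, 0], by simp [Matrix.det_fin_two, ha]⟩

theorem w00 (a : F) (ha : a ≠ 0) : (wm a ha) 0 0 = 0 := rfl
theorem w01 (a : F) (ha : a ≠ 0) : (wm a ha) 0 1 = a := rfl
theorem w10 (a : F) (ha : a ≠ 0) : (wm a ha) 1 0 = -a⁻¹ := rfl
theorem w11 (a : F) (ha : a ≠ 0) : (wm a ha) 1 1 = 0 := rfl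

theorem ulu (a : F) (ha : a ≠ 0) : u a * l (-a⁻¹) * u a = wm a ha := by
  have h : a * a⁻¹ = 1 := mul_inv_cancel₀ ha
  apply ext2 <;> simp only [mul00, mul01, mul10, mul11, u00, u01, u10, u11, l00, l01, l10, l11, w00, w01, w10, w11]
  · linear_combination -h
  · linear_combination -a * h
  · ring
  · linear_combination -h

theorem swap_u (a : F) (ha : a ≠ 0) (b : F) : wm a ha * u b = l (-(b * a⁻¹ ^ 2)) * wm a ha := by
  have h : a * a⁻¹ = 1 := mul_inv_cancel₀ ha
  apply ext2 <;> simp only [mul00, mul01, mul10, mul11, u00, u01, u10, u11, l00, l01, l10, l11, w00, w01, w10, w11]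
  · ring
  · ring
  · ring
  · linear_combination (b * a⁻¹) * h

theorem swap_l (a : F) (ha : a ≠ 0) (b : F) : wm a ha * l b = u (-(b * a ^ 2)) * wm a ha := by
  have h : a * a⁻¹ = 1 := mul_inv_cancel₀ ha
  apply ext2 <;> simp only [mul00, mul01, mul10, mul11, u00, u01, u10, u11, l00, l01, l10, l11, w00, w01, w10, w11]
  · linear_combination (-b * a) * h
  · ring
  · ring
  · ring

end SL

section T

variable {F : Type*} [Field F]

/-- the projection -/
def pr (F : Type*) [Field F] : SpecialLinearGroup (Fin 2) F →* ProjectiveSpecialLinearGroup (Fin 2) F :=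
  QuotientGroup.mk' _

theorem pr_surj : Function.Surjective (pr F) := QuotientGroup.mk'_surjective _

theorem pr_eq {g h : SpecialLinearGroup (Fin 2) F} (hgh : pr F g = pr F h) :
    ∃ s : F, s ^ 2 = 1 ∧ ∀ i j, h i j = s * g i j := by
  have h1 : g⁻¹ * h ∈ center (SpecialLinearGroup (Fin 2) F) := QuotientGroup.eq.1 hgh
  rcases mem_center_SL2_iff.1 h1 with h2 | h2
  · refine ⟨1, one_pow 2, fun i j => ?_⟩
    rw [one_mul, inv_mul_eq_one.1 h2]
  · refine ⟨-1, by ring, fun i j => ?_⟩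
    have h3 : h = g * (-1) := by rw [← h2, mul_inv_cancel_left]
    rw [h3, neg_one_mul, mul_neg, mul_one]
    exact congrFun (congrFun (Matrix.SpecialLinearGroup.coe_neg g) i) j

/-- the upper root subgroup -/
def uH (F : Type*) [Field F] : Multiplicative F →* ProjectiveSpecialLinearGroup (Fin 2) F where
  toFun a := pr F (u (Multiplicative.toAdd a))
  map_one' := by
    change pr F (u 0) = 1
    rw [u_zero, map_one]
  map_mul' a b := by
    change pr F (u (Multiplicative.toAdd a + Multiplicative.toAdd b)) = _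
    rw [← u_mul, map_mul]

/-- the lower root subgroup -/
def lH (F : Type*) [Field F] : Multiplicative F →* ProjectiveSpecialLinearGroup (Fin 2) F where
  toFun a := pr F (l (Multiplicative.toAdd a))
  map_one' := by
    change pr F (l 0) = 1
    rw [l_zero, map_one]
  map_mul' a b := by
    change pr F (l (Multiplicative.toAdd a + Multiplicative.toAdd b)) = _
    rw [← l_mul, map_mul]

theorem uH_inj : Function.Injective (uH F) := by
  rw [injective_iff_map_eq_one]
  intro a ha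
  have h1 : pr F 1 = pr F (u (Multiplicative.toAdd a)) := by
    rw [map_one]
    exact ha.symm
  obtain ⟨s, hs, h2⟩ := pr_eq h1
  have h3 : Multiplicative.toAdd a = s * 0 := h2 0 1
  rw [mul_zero] at h3
  exact h3

theorem lH_inj : Function.Injective (lH F) := by
  rw [injective_iff_map_eq_one]
  intro a ha
  have h1 : pr F 1 = pr F (l (Multiplicative.toAdd a)) := by
    rw [map_one]
    exact ha.symm
  obtain ⟨s, hs, h2⟩ := pr_eq h1
  have h3 : Multiplicative.toAdd a = s * 0 := h2 1 0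
  rw [mul_zero] at h3
  exact h3

theorem mem_u {x : ProjectiveSpecialLinearGroup (Fin 2) F} : x ∈ (uH F).range ↔ ∃ a : F, pr F (u a) = x :=
  ⟨fun ⟨a, ha⟩ => ⟨Multiplicative.toAdd a, ha⟩, fun ⟨a, ha⟩ => ⟨Multiplicative.ofAdd a, ha⟩⟩

theorem mem_l {x : ProjectiveSpecialLinearGroup (Fin 2) F} : x ∈ (lH F).range ↔ ∃ a : F, pr F (l a) = x :=
  ⟨fun ⟨a, ha⟩ => ⟨Multiplicative.toAdd a, ha⟩, fun ⟨a, ha⟩ => ⟨Multiplicative.ofAdd a, ha⟩⟩

section card

variable [Fintype F] {p m : ℕ} [hp : Fact p.Prime]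

theorem fact_card (hF : Fintype.card F = p ^ m) (hm : 0 < m) :
    (Nat.card (ProjectiveSpecialLinearGroup (Fin 2) F)).factorization p = m := by
  have h := card_PSL2_gcd F
  have hq : 1 < Fintype.card F := Fintype.one_lt_card
  have hpq : p ∣ Fintype.card F := hF ▸ dvd_pow_self p hm.ne'
  have hq2 : Fintype.card F ^ 2 = Fintype.card F ^ 2 - 1 + 1 :=
    (Nat.sub_add_cancel (Nat.one_le_pow _ _ (by omega))).symm
  have h1 : ¬ p ∣ Fintype.card F ^ 2 - 1 := by
    intro h2
    have h3 : p ∣ Fintype.card F ^ 2 - 1 + 1 := hq2 ▸ hpq.trans (dvd_pow_self _ two_ne_zero)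
    exact hp.out.one_lt.ne' (Nat.dvd_one.1 ((Nat.dvd_add_right h2).1 h3))
  have h2 : ¬ p ∣ Nat.gcd 2 (Fintype.card F - 1) := by
    intro h3
    apply h1
    have h4 : Fintype.card F ^ 2 - 1 = (Fintype.card F + 1) * (Fintype.card F - 1) := by
      have := Nat.sq_sub_sq (Fintype.card F) 1
      simpa using this
    rw [h4]
    exact (h3.trans (Nat.gcd_dvd_right _ _)).mul_left _
  have hc0 : Nat.card (ProjectiveSpecialLinearGroup (Fin 2) F) ≠ 0 := Nat.card_pos.ne'
  have hg0 : Nat.gcd 2 (Fintype.card F - 1) ≠ 0 := (Nat.gcd_pos_of_pos_left _ two_pos).ne'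
  have hs0 : Fintype.card F ^ 2 - 1 ≠ 0 := by
    intro h0
    exact h1 (h0 ▸ dvd_zero p)
  have h3 := congrArg (fun n : ℕ => n.factorization p) h
  rw [Nat.factorization_mul hc0 hg0, Nat.factorization_mul (by omega) hs0, Finsupp.add_apply, Finsupp.add_apply,
    Nat.factorization_eq_zero_of_not_dvd h2, Nat.factorization_eq_zero_of_not_dvd h1, hF, hp.out.factorization_pow,
    Finsupp.single_eq_same, add_zero, add_zero] at h3
  exact h3

/-- the upper Sylow subgroup -/
theorem exists_ub (hF : Fintype.card F = p ^ m) (hm : 0 < m) :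
    ∃ U : Sylow p (ProjectiveSpecialLinearGroup (Fin 2) F), (U : Subgroup _) = (uH F).range := by
  refine ⟨Sylow.ofCard (uH F).range ?_, rfl⟩
  rw [fact_card hF hm, ← Nat.card_congr (MonoidHom.ofInjective uH_inj).toEquiv, ← hF, Nat.card_eq_fintype_card,
    Fintype.card_multiplicative]

/-- the lower Sylow subgroup -/
theorem exists_um (hF : Fintype.card F = p ^ m) (hm : 0 < m) :
    ∃ U : Sylow p (ProjectiveSpecialLinearGroup (Fin 2) F), (U : Subgroup _) = (lH F).range := by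
  refine ⟨Sylow.ofCard (lH F).range ?_, rfl⟩
  rw [fact_card hF hm, ← Nat.card_congr (MonoidHom.ofInjective lH_inj).toEquiv, ← hF, Nat.card_eq_fintype_card,
    Fintype.card_multiplicative]

omit hp in
/-- equality from one inclusion -/
theorem smul_eq_of {G : Type*} [Group G] {P Q : Sylow p G} {g : G} (h : ∀ x ∈ (P : Subgroup G), g * x * g⁻¹ ∈ (Q : Subgroup G)) :
    g • P = Q := by
  apply Sylow.ext
  refine ((g • P).is_maximal' Q.isPGroup' ?_).symm
  rintro _ ⟨x, hx, rfl⟩
  exact h x hx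

variable (hF : Fintype.card F = p ^ m) (hm : 0 < m) {Ub Um : Sylow p (ProjectiveSpecialLinearGroup (Fin 2) F)}
  (hb : (Ub : Subgroup (ProjectiveSpecialLinearGroup (Fin 2) F)) = (uH F).range)
  (hu : (Um : Subgroup (ProjectiveSpecialLinearGroup (Fin 2) F)) = (lH F).range)
include hb hu

theorem sylow_cases (R : Sylow p (ProjectiveSpecialLinearGroup (Fin 2) F)) :
    R = Ub ∨ ∃ a : F, R = pr F (u a) • Um := by
  obtain ⟨k, rfl⟩ := MulAction.exists_smul_eq (ProjectiveSpecialLinearGroup (Fin 2) F) Ub R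
  obtain ⟨g, rfl⟩ := pr_surj k
  by_cases h : g 1 0 = 0
  · left
    apply smul_eq_of
    intro x hx
    rw [hb, mem_u] at hx
    obtain ⟨a, rfl⟩ := hx
    rw [hb, mem_u]
    refine ⟨g 0 0 ^ 2 * a, ?_⟩
    rw [← map_mul, conj_upper g h, map_mul, mul_inv_cancel_right]
  · right
    refine ⟨g 0 0 / g 1 0, ?_⟩
    rw [← inv_smul_eq_iff, ← mul_smul]
    apply smul_eq_of
    intro x hx
    rw [hb, mem_u] at hx
    obtain ⟨a, rfl⟩ := hx
    rw [hu, mem_l]
    refine ⟨-(g 1 0) ^ 2 * a, ?_⟩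
    have h1 : (pr F (u (g 0 0 / g 1 0)))⁻¹ = pr F (u (-(g 0 0 / g 1 0))) := by
      rw [← map_inv]
      congr 1
      rw [inv_eq_iff_mul_eq_one, u_mul, add_neg_cancel, u_zero]
    have h2 : pr F g * pr F (u a) = pr F (u (g 0 0 / g 1 0)) * pr F (l (-(g 1 0) ^ 2 * a)) * pr F (u (-(g 0 0 / g 1 0))) * pr F g := by
      rw [← map_mul, conj_lower g h, map_mul, map_mul, map_mul]
    rw [← h1] at h2
    rw [_root_.mul_inv_rev]
    generalize pr F g = A at *
    generalize pr F (u a) = B at *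
    generalize pr F (l (-(g 1 0) ^ 2 * a)) = C at *
    generalize pr F (u (g 0 0 / g 1 0)) = D at *
    have h3 : C = D⁻¹ * (A * B) * A⁻¹ * D := by
      rw [h2]
      group
    rw [h3]
    group

theorem pair {R R' : Sylow p (ProjectiveSpecialLinearGroup (Fin 2) F)} (h : R' ≠ R) :
    ∃ k : ProjectiveSpecialLinearGroup (Fin 2) F, k • Ub = R ∧ k • Um = R' := by
  obtain ⟨k, rfl⟩ := MulAction.exists_smul_eq (ProjectiveSpecialLinearGroup (Fin 2) F) Ub R
  rcases sylow_cases hb hu (k⁻¹ • R') with h1 | ⟨a, h1⟩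
  · exfalso
    exact h (inv_smul_eq_iff.1 h1)
  · refine ⟨k * pr F (u a), ?_, ?_⟩
    · rw [mul_smul]
      congr 1
      rw [Sylow.smul_eq_iff_mem_normalizer]
      apply le_normalizer
      rw [hb]
      exact mem_u.2 ⟨a, rfl⟩
    · rw [mul_smul, ← h1, smul_inv_smul]

omit hp hb hu in
theorem mem_smul' {G : Type*} [Group G] {P : Sylow p G} {g x : G} : x ∈ ((g • P : Sylow p G) : Subgroup G) ↔
    ∃ y ∈ (P : Subgroup G), g * y * g⁻¹ = x := Iff.rfl

include hF hm in
theorem concl_aux (R : Sylow p (ProjectiveSpecialLinearGroup (Fin 2) F)) : Concl m R := by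
  constructor
  · intro P' P'' h' h''
    obtain ⟨k, rfl⟩ := MulAction.exists_smul_eq (ProjectiveSpecialLinearGroup (Fin 2) F) Ub R
    rcases sylow_cases hb hu (k⁻¹ • P') with h1 | ⟨a, h1⟩
    · exact (h' (inv_smul_eq_iff.1 h1)).elim
    rcases sylow_cases hb hu (k⁻¹ • P'') with h2 | ⟨b, h2⟩
    · exact (h'' (inv_smul_eq_iff.1 h2)).elim
    rw [inv_smul_eq_iff] at h1 h2
    subst h1 h2
    refine ⟨k * pr F (u (b - a)) * k⁻¹, mem_smul'.2 ⟨_, hb ▸ mem_u.2 ⟨b - a, rfl⟩, rfl⟩, ?_⟩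
    rw [mul_smul, mul_smul, inv_smul_smul]
    congr 1
    rw [← mul_smul, ← map_mul, u_mul, sub_add_cancel]
  · intro P' h' x hx hx1
    obtain ⟨k, rfl, rfl⟩ := pair hb hu h'
    obtain ⟨z, hz, rfl⟩ := mem_smul'.1 hx
    rw [hb, mem_u] at hz
    obtain ⟨a, rfl⟩ := hz
    have ha : a ≠ 0 := by
      rintro rfl
      apply hx1
      rw [u_zero, map_one, mul_one, mul_inv_cancel]
    refine ⟨k * pr F (l (-a⁻¹)) * k⁻¹, mem_smul'.2 ⟨_, hu ▸ mem_l.2 ⟨_, rfl⟩, rfl⟩, ?_⟩
    have e : k * pr F (u a) * k⁻¹ * (k * pr F (l (-a⁻¹)) * k⁻¹) * (k * pr F (u a) * k⁻¹) = k * pr F (wm a ha) * k⁻¹ := by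
      rw [← ulu a ha, map_mul, map_mul]
      group
    rw [e]
    constructor
    · rw [mul_smul, mul_smul, inv_smul_smul]
      congr 1
      apply smul_eq_of
      intro x hx
      rw [hb, mem_u] at hx
      obtain ⟨b, rfl⟩ := hx
      rw [hu, mem_l]
      refine ⟨-(b * a⁻¹ ^ 2), ?_⟩
      rw [← map_mul, swap_u a ha, map_mul, mul_inv_cancel_right]
    · rw [mul_smul, mul_smul, inv_smul_smul]
      congr 1
      apply smul_eq_of
      intro x hx
      rw [hu, mem_l] at hx
      obtain ⟨b, rfl⟩ := hx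
      rw [hb, mem_u]
      refine ⟨-(b * a ^ 2), ?_⟩
      rw [← map_mul, swap_l a ha, map_mul, mul_inv_cancel_right]
  · intro P' h'
    obtain ⟨k, rfl, rfl⟩ := pair hb hu h'
    obtain ⟨t, ht⟩ := IsCyclic.exists_generator (α := Fˣ)
    have ho : orderOf t = p ^ m - 1 := by
      rw [orderOf_eq_card_of_forall_mem_zpowers ht, Nat.card_units, Nat.card_eq_fintype_card, hF]
    refine ⟨k * pr F (dg t) * k⁻¹, ?_, ?_, ?_⟩
    · rw [mul_smul, mul_smul, inv_smul_smul]
      congr 1
      apply smul_eq_of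
      intro x hx
      rw [hb, mem_u] at hx
      obtain ⟨b, rfl⟩ := hx
      rw [hb, mem_u]
      refine ⟨dg t 0 0 ^ 2 * b, ?_⟩
      rw [← map_mul, conj_upper _ (d10 t), map_mul, mul_inv_cancel_right]
    · rw [mul_smul, mul_smul, inv_smul_smul]
      congr 1
      apply smul_eq_of
      intro x hx
      rw [hu, mem_l] at hx
      obtain ⟨b, rfl⟩ := hx
      rw [hu, mem_l]
      refine ⟨((t⁻¹ : Fˣ) : F) ^ 2 * b, ?_⟩
      rw [← map_mul, dg_l, map_mul, mul_inv_cancel_right]
    · intro j hj hjq x hx hc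
      obtain ⟨z, hz, rfl⟩ := mem_smul'.1 hx
      rw [hb, mem_u] at hz
      obtain ⟨a, rfl⟩ := hz
      have h1 : (k * pr F (dg t) * k⁻¹) ^ j = k * pr F (dg (t ^ j)) * k⁻¹ := by
        rw [conj_pow, ← map_pow, dg_pow]
      rw [h1] at hc
      have h2 : pr F (dg (t ^ j) * u a) = pr F (u a * dg (t ^ j)) := by
        rw [map_mul, map_mul]
        generalize pr F (dg (t ^ j)) = A at *
        generalize pr F (u a) = B at *
        have h3 : A * B = k⁻¹ * (k * A * k⁻¹ * (k * B * k⁻¹)) * k := by group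
        rw [h3, hc]
        group
      obtain ⟨s, hs, h3⟩ := pr_eq h2
      have h4 := h3 0 0
      have h5 := h3 0 1
      simp only [mul00, mul01, u00, u01, u10, u11, d00, d01, d10, d11, mul_zero, add_zero, mul_one, one_mul, zero_add] at h4 h5
      have h6 : s = 1 := by
        have h7 : ((t ^ j : Fˣ) : F) * (s - 1) = 0 := by linear_combination -h4
        rcases mul_eq_zero.1 h7 with h8 | h8
        · exact ((t ^ j).ne_zero h8).elim
        · linear_combination h8
      rw [h6, one_mul] at h5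
      by_cases ha : a = 0
      · rw [ha, u_zero, map_one, mul_one, mul_inv_cancel]
      exfalso
      have h7 : ((t ^ j : Fˣ) : F) * ((t ^ j)⁻¹ : Fˣ) = 1 := Units.mul_inv _
      have h8 : ((t ^ j : Fˣ) : F) ^ 2 = 1 := by
        have h9 : a * (((t ^ j : Fˣ) : F) ^ 2 - 1) = 0 := by linear_combination (-((t ^ j : Fˣ) : F)) * h5 + a * h7
        rcases mul_eq_zero.1 h9 with h10 | h10
        · exact (ha h10).elim
        · linear_combination h10
      have h9 : t ^ (j * 2) = 1 := by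
        apply Units.ext
        rw [pow_mul]
        push_cast
        push_cast at h8
        exact h8
      have h10 : p ^ m - 1 ∣ j * 2 := ho ▸ orderOf_dvd_of_pow_eq_one h9
      by_cases hp2 : p = 2
      · rw [if_pos hp2, mul_one] at hjq
        have h11 : Nat.Coprime (p ^ m - 1) 2 := by
          rw [Nat.coprime_two_right]
          have h12 : Even (p ^ m) := by
            rw [hp2]
            exact (Nat.even_pow.2 ⟨even_two, hm.ne'⟩)
          have h13 : 0 < p ^ m := pow_pos hp.out.pos m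
          exact Nat.Even.sub_odd (by omega) h12 odd_one
        have h12 := Nat.le_of_dvd hj (h11.dvd_of_dvd_mul_right h10)
        omega
      · rw [if_neg hp2] at hjq
        have h12 := Nat.le_of_dvd (by omega) h10
        omega

omit hb hu in
/-- **the conclusions of `StRk` hold in `PSL₂(pᵐ)`** -/
theorem concl_psl (hF : Fintype.card F = p ^ m) (hm : 0 < m) (R : Sylow p (ProjectiveSpecialLinearGroup (Fin 2) F)) :
    Concl m R := by
  obtain ⟨Ub, hb⟩ := exists_ub hF hm
  obtain ⟨Um, hu⟩ := exists_um hF hm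
  exact concl_aux hF hm hb hu R

end card

end T

end Cfsg.Agent.H417.P4
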