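import Cfsg.Agent.H776.P4.Stmts

/-!
# S5210, RK: the structure part (helper417, interface between RKa and RKb)

`StRkStr` : there are a field `F` of order `p ^ m`, a normal subgroup `L` containing the Sylow `p`-subgroup `P` and a surjective
homomorphism `L →* PSL₂(F)` whose kernel is a `p'`-group centralized by `P`.
-/

set_option autoImplicit false

namespace Cfsg.Agent.H417.P4

universe u

/-- (RKa) the structure part of `StRk` -/
def StRkStr : Prop :=
  ∀ {G : Type u} [Group G] [Finite G] {p m : ℕ} [Fact p.Prime] (P : Sylow p G), 2 ≤ m →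
    (∀ g : G, g ∉ Subgroup.normalizer ((P : Subgroup G) : Set G) → ∀ x ∈ (P : Subgroup G), g * x * g⁻¹ ∈ (P : Subgroup G) →
      x = 1) →
    ¬ (P : Subgroup G).Normal → Nat.card P = p ^ m →
    (∀ x ∈ (P : Subgroup G), ∀ y ∈ (P : Subgroup G), x * y = y * x) → (∀ x ∈ (P : Subgroup G), x ^ p = 1) →
    (p ≠ 2 → Nat.card G ∣ Nat.card (GL (Fin (2 * m)) (ZMod p))) →
    ∃ (F : Type) (_ : Field F) (_ : Fintype F) (L : Subgroup G) (_ : L.Normal) (_ : (P : Subgroup G) ≤ L)
      (f : ↥L →* Matrix.ProjectiveSpecialLinearGroup (Fin 2) F),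
      Fintype.card F = p ^ m ∧ Function.Surjective f ∧ (¬ p ∣ Nat.card f.ker) ∧
        ∀ z : ↥L, z ∈ f.ker → ∀ x ∈ (P : Subgroup G), (z : G) * x = x * z

end Cfsg.Agent.H417.P4
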