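import Cfsg.Agent.H417.P4.Psl
import Cfsg.Agent.H417.P4.RkDef

/-!
# S5210, RK from the structure part (helper417)

* `Concl.of_map` : the conclusions of `StRk` lift along a surjective homomorphism which is injective on the Sylow subgroups;
* `Concl.of_inj` : they pass to an overgroup containing all the Sylow subgroups;
* `stRk_of_str` : `StRkStr → StRk`.
-/

set_option autoImplicit false

namespace Cfsg.Agent.H417.P4

open Subgroup
open scoped Pointwise

universe u

section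

variable {p m : ℕ} [hp : Fact p.Prime] {G : Type*} [Group G]

/-- along a surjection -/
theorem Concl.of_map [Finite G] {H : Type*} [Group H] {π : G →* H} (hπ : Function.Surjective π)
    (hs : ∀ Q R : Sylow p G, Q.mapSurjective hπ = R.mapSurjective hπ → Q = R) {P : Sylow p G}
    (h1 : ∀ x ∈ (P : Subgroup G), π x = 1 → x = 1) (h : Concl m (P.mapSurjective hπ)) : Concl m P := by
  have hsm : ∀ (g : G) (Q : Sylow p G), (g • Q).mapSurjective hπ = π g • Q.mapSurjective hπ := by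
    intro g Q
    apply Sylow.ext
    change ((Q : Subgroup G).map (MulAut.conj g).toMonoidHom).map π = ((Q : Subgroup G).map π).map (MulAut.conj (π g)).toMonoidHom
    rw [Subgroup.map_map, Subgroup.map_map]
    congr 1
    ext x
    simp
  have hinj : ∀ x ∈ (P : Subgroup G), ∀ y ∈ (P : Subgroup G), π x = π y → x = y := by
    intro x hx y hy hxy
    refine inv_mul_eq_one.1 (h1 _ (mul_mem (inv_mem hx) hy) ?_)
    rw [map_mul, map_inv, hxy, inv_mul_cancel]
  have hne : ∀ Q : Sylow p G, Q ≠ P → Q.mapSurjective hπ ≠ P.mapSurjective hπ := fun Q hQ h2 => hQ (hs _ _ h2)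
  constructor
  · intro P' P'' h' h''
    obtain ⟨_, ⟨x, hx, rfl⟩, h2⟩ := h.tr _ _ (hne _ h') (hne _ h'')
    refine ⟨x, hx, hs _ _ ?_⟩
    rw [hsm, ← h2]
  · intro P' h' x hx hx1
    obtain ⟨_, ⟨y, hy, rfl⟩, h2, h3⟩ := h.sw _ (hne _ h') (π x) ⟨x, hx, rfl⟩ (fun h4 => hx1 (h1 x hx h4))
    refine ⟨y, hy, hs _ _ ?_, hs _ _ ?_⟩
    · rw [hsm, map_mul, map_mul, h2]
    · rw [hsm, map_mul, map_mul, h3]
  · intro P' h'
    obtain ⟨h0, h2, h3, h4⟩ := h.tor _ (hne _ h')
    obtain ⟨g, rfl⟩ := hπ h0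
    refine ⟨g, hs _ _ (by rw [hsm, h2]), hs _ _ (by rw [hsm, h3]), ?_⟩
    intro j hj hjq x hx hc
    refine h1 x hx (h4 j hj hjq _ ⟨x, hx, rfl⟩ ?_)
    rw [← map_pow, ← map_mul, hc, map_mul]

omit hp in
/-- along an injection whose range contains the Sylow subgroups -/
theorem Concl.of_inj {K : Type*} [Group K] (f : K →* G) (hf : Function.Injective f)
    (hr : ∀ Q : Sylow p G, (Q : Subgroup G) ≤ f.range) {P : Sylow p G}
    (h : Concl m (P.comapOfInjective f hf (hr P))) : Concl m P := by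
  have hs : ∀ Q R : Sylow p G, Q.comapOfInjective f hf (hr Q) = R.comapOfInjective f hf (hr R) → Q = R := by
    intro Q R hQR
    apply Sylow.ext
    rw [← Subgroup.map_comap_eq_self (hr Q), ← Subgroup.map_comap_eq_self (hr R)]
    congr 1
    exact congrArg (fun S : Sylow p K => (S : Subgroup K)) hQR
  have hsm : ∀ (g : K) (Q : Sylow p G), (f g • Q).comapOfInjective f hf (hr _) = g • Q.comapOfInjective f hf (hr _) := by
    intro g Q
    rw [← inv_smul_eq_iff]
    apply Sylow.ext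
    ext x
    rw [Sylow.coe_comapOfInjective, Subgroup.mem_comap]
    constructor
    · rintro ⟨y, hy, rfl⟩
      obtain ⟨z, hz, hzy⟩ := hy
      have h2 : z = f (g⁻¹ * y * g) := by
        rw [map_mul, map_mul, map_inv, ← hzy]
        change z = (f g)⁻¹ * (f g * z * (f g)⁻¹) * f g
        group
      change f (g⁻¹ * y * g⁻¹⁻¹) ∈ (Q : Subgroup G)
      rw [inv_inv, ← h2]
      exact hz
    · intro hx
      refine ⟨g * x * g⁻¹, ⟨f x, hx, ?_⟩, ?_⟩
      · change f g * f x * (f g)⁻¹ = f (g * x * g⁻¹)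
        rw [map_mul, map_mul, map_inv]
      · change g⁻¹ * (g * x * g⁻¹) * g⁻¹⁻¹ = x
        group
  have hne : ∀ Q : Sylow p G, Q ≠ P → Q.comapOfInjective f hf (hr Q) ≠ P.comapOfInjective f hf (hr P) :=
    fun Q hQ h2 => hQ (hs _ _ h2)
  constructor
  · intro P' P'' h' h''
    obtain ⟨x, hx, h2⟩ := h.tr _ _ (hne _ h') (hne _ h'')
    refine ⟨f x, hx, hs _ _ ?_⟩
    rw [hsm, h2]
  · intro P' h' x hx hx1
    obtain ⟨x, rfl⟩ := hr P hx
    obtain ⟨y, hy, h2, h3⟩ := h.sw _ (hne _ h') x hx (fun h4 => hx1 (by rw [h4, map_one]))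
    refine ⟨f y, hy, hs _ _ ?_, hs _ _ ?_⟩
    · rw [← map_mul, ← map_mul, hsm, h2]
    · rw [← map_mul, ← map_mul, hsm, h3]
  · intro P' h'
    obtain ⟨g, h2, h3, h4⟩ := h.tor _ (hne _ h')
    refine ⟨f g, hs _ _ (by rw [hsm, h2]), hs _ _ (by rw [hsm, h3]), ?_⟩
    intro j hj hjq x hx hc
    obtain ⟨x, rfl⟩ := hr P hx
    rw [h4 j hj hjq x hx (hf (by rw [map_mul, map_mul, map_pow, hc])), map_one]

omit hp in
/-- the conclusions in the form of `StRk` -/
theorem Concl.out {P : Sylow p G} (h : Concl m P) :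
    (∀ P' P'' : Sylow p G, P' ≠ P → P'' ≠ P → ∃ x ∈ (P : Subgroup G),
      (P' : Subgroup G).map (MulAut.conj x).toMonoidHom = P'') ∧
    (∀ P' : Sylow p G, P' ≠ P → ∀ x ∈ (P : Subgroup G), x ≠ 1 → ∃ y ∈ (P' : Subgroup G),
      (P : Subgroup G).map (MulAut.conj (x * y * x)).toMonoidHom = P' ∧
      (P' : Subgroup G).map (MulAut.conj (x * y * x)).toMonoidHom = P) ∧
    (∀ P' : Sylow p G, P' ≠ P → ∃ h ∈ Subgroup.normalizer ((P : Subgroup G) : Set G),
      h ∈ Subgroup.normalizer ((P' : Subgroup G) : Set G) ∧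
      ∀ j : ℕ, 0 < j → j * (if p = 2 then 1 else 2) < p ^ m - 1 → ∀ x ∈ (P : Subgroup G), h ^ j * x = x * h ^ j → x = 1) := by
  refine ⟨?_, ?_, ?_⟩
  · intro P' P'' h' h''
    obtain ⟨x, hx, h2⟩ := h.tr P' P'' h' h''
    exact ⟨x, hx, congrArg (fun S : Sylow p G => (S : Subgroup G)) h2⟩
  · intro P' h' x hx hx1
    obtain ⟨y, hy, h2, h3⟩ := h.sw P' h' x hx hx1
    exact ⟨y, hy, congrArg (fun S : Sylow p G => (S : Subgroup G)) h2, congrArg (fun S : Sylow p G => (S : Subgroup G)) h3⟩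
  · intro P' h'
    obtain ⟨g, h2, h3, h4⟩ := h.tor P' h'
    exact ⟨g, Sylow.smul_eq_iff_mem_normalizer.1 h2, Sylow.smul_eq_iff_mem_normalizer.1 h3, h4⟩

/-- the kernel of order prime to `p` centralizing the Sylow subgroups -/
theorem Concl.of_ker [Finite G] {H : Type*} [Group H] {π : G →* H} (hπ : Function.Surjective π)
    (hk : ¬ p ∣ Nat.card π.ker) {P : Sylow p G} (hc : ∀ z ∈ π.ker, ∀ x ∈ (P : Subgroup G), z * x = x * z)
    (h : Concl m (P.mapSurjective hπ)) : Concl m P := by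
  have hpn : ∀ {y : G}, (∃ k, y ^ p ^ k = 1) → y ∈ π.ker → y = 1 := by
    rintro y ⟨k, hk1⟩ hy
    have h1 : orderOf y ∣ p ^ k := orderOf_dvd_of_pow_eq_one hk1
    have h2 : orderOf y ∣ Nat.card π.ker := by
      have := orderOf_dvd_natCard (⟨y, hy⟩ : π.ker)
      rwa [← Subgroup.orderOf_coe] at this
    have h3 : Nat.Coprime (p ^ k) (Nat.card π.ker) := Nat.Coprime.pow_left _ ((Nat.Prime.coprime_iff_not_dvd hp.out).2 hk)
    exact orderOf_eq_one_iff.1 (Nat.eq_one_of_dvd_coprimes h3 h1 h2)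
  have hpe : ∀ (Q : Sylow p G) (y : G), y ∈ (Q : Subgroup G) → ∃ k, y ^ p ^ k = 1 := by
    intro Q y hy
    obtain ⟨k, hk⟩ := Q.isPGroup' ⟨y, hy⟩
    exact ⟨k, congrArg Subtype.val hk⟩
  have hcQ : ∀ (Q : Sylow p G), ∀ z ∈ π.ker, ∀ x ∈ (Q : Subgroup G), z * x = x * z := by
    intro Q z hz x hx
    obtain ⟨g, rfl⟩ := MulAction.exists_smul_eq G P Q
    obtain ⟨y, hy, rfl⟩ := mem_smul'.1 hx
    have h1 := hc (g⁻¹ * z * g) (by
      have := (MonoidHom.normal_ker π).conj_mem z hz g⁻¹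
      rwa [inv_inv] at this) y hy
    have h2 : z * (g * y * g⁻¹) = g * (g⁻¹ * z * g * y) * g⁻¹ := by group
    rw [h2, h1]
    group
  refine h.of_map hπ ?_ ?_
  · intro Q R hQR
    have h1 : (R : Subgroup G) ≤ Q := by
      intro r hr
      have h2 : π r ∈ (Q : Subgroup G).map π := by
        have h3 := congrArg (fun S : Sylow p H => (S : Subgroup H)) hQR
        have h4 : (Q : Subgroup G).map π = (R : Subgroup G).map π := h3
        rw [h4]
        exact ⟨r, hr, rfl⟩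
      obtain ⟨x, hx, hxr⟩ := h2
      have h3 : x⁻¹ * r ∈ π.ker := by
        rw [MonoidHom.mem_ker, map_mul, map_inv, hxr, inv_mul_cancel]
      have h4 : x⁻¹ * r = 1 := by
        refine hpn ?_ h3
        obtain ⟨k, hk⟩ := hpe Q x hx
        obtain ⟨l, hl⟩ := hpe R r hr
        have h5 : Commute x (x⁻¹ * r) := (hcQ Q _ h3 x hx).symm
        have h6 := h5.mul_pow (p ^ (k + l))
        rw [mul_inv_cancel_left] at h6
        have h7 : r ^ p ^ (k + l) = 1 := by rw [pow_add, mul_comm, pow_mul, hl, one_pow]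
        have h8 : x ^ p ^ (k + l) = 1 := by rw [pow_add, pow_mul, hk, one_pow]
        rw [h7, h8, one_mul] at h6
        exact ⟨_, h6.symm⟩
      rw [← inv_mul_eq_one.1 h4]
      exact hx
    exact (Sylow.ext (R.is_maximal' Q.isPGroup' h1))
  · intro x hx hx1
    exact hpn (hpe P x hx) hx1

end

/-- the conclusions from the structure -/
theorem concl_of_str {G : Type*} [Group G] [Finite G] {p m : ℕ} [Fact p.Prime] (P : Sylow p G) (hm : 0 < m) {F : Type*} [Field F]
    [Fintype F] (hF : Fintype.card F = p ^ m) {L : Subgroup G} [hL : L.Normal] (hPL : (P : Subgroup G) ≤ L)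
    {f : ↥L →* Matrix.ProjectiveSpecialLinearGroup (Fin 2) F} (hf : Function.Surjective f) (hk : ¬ p ∣ Nat.card f.ker)
    (hc : ∀ z : ↥L, z ∈ f.ker → ∀ x ∈ (P : Subgroup G), (z : G) * x = x * z) : Concl m P := by
  have hr : ∀ Q : Sylow p G, (Q : Subgroup G) ≤ L.subtype.range := by
    intro Q
    rw [Subgroup.range_subtype]
    obtain ⟨g, rfl⟩ := MulAction.exists_smul_eq G P Q
    intro x hx
    obtain ⟨y, hy, rfl⟩ := mem_smul'.1 hx
    exact hL.conj_mem y (hPL hy) g
  refine Concl.of_inj L.subtype (Subgroup.subtype_injective L) hr ?_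
  refine Concl.of_ker hf hk ?_ (concl_psl hF hm _)
  intro z hz x hx
  exact Subtype.ext (hc z hz _ hx)

/-- **(RKb)** -/
theorem stRk_of_str (h : StRkStr.{u}) : H776.P4.StRk.{u} := by
  intro G _ _ p m _ P hm hTI hn hP hab hexp hd
  obtain ⟨F, _, _, L, _, hPL, f, hF, hf, hk, hc⟩ := h P hm hTI hn hP hab hexp hd
  exact (concl_of_str P (by omega) hF hPL hf hk hc).out

end Cfsg.Agent.H417.P4
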