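import Cfsg.Agent.H417.P4.Rk
import Cfsg.Agent.H367.PU.Quo

/-!
# S5210, RK from the structure part, the form with a quotient (helper417)

`stRk_of_cq` : `StRk` from the structure theorem of RKa (`PSL₂(pᵐ) →* G ⧸ N`, `N` a `p'`-core centralizing the Sylow subgroups).
-/

set_option autoImplicit false

namespace Cfsg.Agent.H417.P4

open Subgroup
open Cfsg.Agent.H367.PU

universe u

/-- (RKa) the structure part of `StRk`, with a quotient -/
def StRkQuo : Prop :=
  ∀ {G : Type u} [Group G] [Finite G] {p m : ℕ} [Fact p.Prime] (P : Sylow p G), 2 ≤ m →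
    (∀ g : G, g ∉ Subgroup.normalizer ((P : Subgroup G) : Set G) → ∀ x ∈ (P : Subgroup G), g * x * g⁻¹ ∈ (P : Subgroup G) →
      x = 1) →
    ¬ (P : Subgroup G).Normal → Nat.card P = p ^ m →
    (∀ x ∈ (P : Subgroup G), ∀ y ∈ (P : Subgroup G), x * y = y * x) → (∀ x ∈ (P : Subgroup G), x ^ p = 1) →
    (p ≠ 2 → Nat.card G ∣ Nat.card (GL (Fin (2 * m)) (ZMod p))) →
    ∃ (F : Type) (_ : Field F) (_ : Fintype F) (N : Subgroup G) (_ : N.Normal)
      (f : Matrix.ProjectiveSpecialLinearGroup (Fin 2) F →* G ⧸ N),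
      Fintype.card F = p ^ m ∧ CQ p N ∧ Function.Injective f ∧ ∀ Q : Sylow p (G ⧸ N), (Q : Subgroup (G ⧸ N)) ≤ f.range

theorem concl_of_cq {G : Type*} [Group G] [Finite G] {p m : ℕ} [hp : Fact p.Prime] (P : Sylow p G) (hm : 0 < m) {F : Type*}
    [Field F] [Fintype F] (hF : Fintype.card F = p ^ m) {N : Subgroup G} [N.Normal] (hN : CQ p N)
    (f : Matrix.ProjectiveSpecialLinearGroup (Fin 2) F →* G ⧸ N) (hf : Function.Injective f)
    (hr : ∀ Q : Sylow p (G ⧸ N), (Q : Subgroup (G ⧸ N)) ≤ f.range) : Concl m P := by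
  refine Concl.of_ker (QuotientGroup.mk'_surjective N) ?_ ?_ (Concl.of_inj f hf hr (concl_psl hF hm _))
  · rw [QuotientGroup.ker_mk']
    exact fun h => hp.out.one_lt.ne' (Nat.eq_one_of_dvd_coprimes hN.cop h dvd_rfl)
  · rw [QuotientGroup.ker_mk']
    exact hN.comm P

/-- **(RKb)**, the form with a quotient -/
theorem stRk_of_cq (h : StRkQuo.{u}) : H776.P4.StRk.{u} := by
  intro G _ _ p m _ P hm hTI hn hP hab hexp hd
  obtain ⟨F, _, _, N, _, f, hF, hN, hf, hr⟩ := h P hm hTI hn hP hab hexp hd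
  exact (concl_of_cq P (by omega) hF hN f hf hr).out

end Cfsg.Agent.H417.P4
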